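/-
Effective Cartier ideals pulled back along blow-ups.
-/
import Groth.Agent.Lib.EffCartier.Dense
import Groth.Agent.Lib.EffCartier.Mul
import Groth.Agent.Lib.BlowUpExist.Proper

universe u

open CategoryTheory CategoryTheory.Limits AlgebraicGeometry TopologicalSpace

namespace BlowUp26

open Groth.Agent.EffCartier

variable {X Y : Scheme.{u}}

lemma preimage_cmpl_eq (I : X.IdealSheafData) (b : Y ⟶ X) : b ⁻¹ᵁ cmpl I = cmpl (I.comap b) := by
  apply TopologicalSpace.Opens.ext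
  ext y
  show b y ∉ I.support ↔ y ∉ (I.comap b).support
  rw [Scheme.IdealSheafData.support_comap]
  rfl

/-- Effective Cartier ideals pull back to effective Cartier ideals along blow-ups. -/
theorem isEffCartierIdeal_comap_blowUp {C D : X.IdealSheafData} {b : Y ⟶ X}
    (hb : BlowUp.IsBlowUp b C) (hD : BlowUp.IsEffCartierIdeal D) :
    BlowUp.IsEffCartierIdeal (D.comap b) := by
  let O : Y.Opens := b ⁻¹ᵁ cmpl C
  have := isIso_blowUp_restrict hb
  let φ : (O : Scheme.{u}) ⟶ X := (b ∣_ cmpl C) ≫ (cmpl C).ι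
  have hφ : φ = O.ι ≫ b := morphismRestrict_ι b (cmpl C)
  have h1 : IsSchemeTheoreticallyDominant (cmpl D).ι := dominant_cmpl hD
  have h2 : QuasiCompact (cmpl D).ι := quasiCompact_interior hD
  have h3 := dominant_preimage φ (cmpl D)
  have h4 := quasiCompact_preimage φ (cmpl D)
  have h5 : IsSchemeTheoreticallyDominant O.ι := by
    have := dominant_cmpl hb.1
    rwa [← preimage_cmpl_eq] at this
  have h6 : IsSchemeTheoreticallyDominant ((φ ⁻¹ᵁ cmpl D).ι ≫ O.ι) := inferInstance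
  have : IsSchemeTheoreticallyDominant (b ⁻¹ᵁ cmpl D).ι := by
    refine dominant_of_range_le ((φ ⁻¹ᵁ cmpl D).ι ≫ O.ι) _ fun x => ?_
    show b (((φ ⁻¹ᵁ cmpl D).ι ≫ O.ι) x) ∈ cmpl D
    rw [Scheme.Hom.comp_apply, ← Scheme.Hom.comp_apply O.ι b, ← hφ]
    exact x.2
  exact comap_of_dominant hD b

/-- Successive blow-ups compute the blow-up of the product. -/
theorem isBlowUp_comp_mul {Z : Scheme.{u}} {I J : X.IdealSheafData} {b : Y ⟶ X}
    (hb : BlowUp.IsBlowUp b I) {b' : Z ⟶ Y} (hb' : BlowUp.IsBlowUp b' (J.comap b)) :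
    BlowUp.IsBlowUp (b' ≫ b) (I * J) := by
  refine ⟨?_, fun W g hg => ?_⟩
  · rw [Scheme.IdealSheafData.comap_comp, comap_mul, comap_mul]
    exact isEffCartierIdeal_mul (isEffCartierIdeal_comap_blowUp hb' hb.1) hb'.1
  · rw [comap_mul] at hg
    obtain ⟨h, hh, hu⟩ := hb.2 W g (isEffCartierIdeal_of_mul_left hg)
    obtain ⟨k, hk, hku⟩ := hb'.2 W h (by
      rw [← Scheme.IdealSheafData.comap_comp, hh]; exact isEffCartierIdeal_of_mul_right hg)
    refine ⟨k, ?_, fun k' hk' => hku k' ?_⟩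
    · show k ≫ b' ≫ b = g
      rw [← Category.assoc, hk, hh]
    · exact hu (k' ≫ b') ((Category.assoc _ _ _).trans hk')

theorem isBlowUp_mul_effCartier {I D : X.IdealSheafData} (hD : BlowUp.IsEffCartierIdeal D)
    {b : Y ⟶ X} (hb : BlowUp.IsBlowUp b I) : BlowUp.IsBlowUp b (I * D) := by
  refine ⟨?_, fun W g hg => ?_⟩
  · rw [comap_mul]
    exact isEffCartierIdeal_mul hb.1 (isEffCartierIdeal_comap_blowUp hb hD)
  · rw [comap_mul] at hg
    exact hb.2 W g (isEffCartierIdeal_of_mul_left hg)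

theorem isEffCartierIdeal_comap_flat {I : X.IdealSheafData} (hI : BlowUp.IsEffCartierIdeal I)
    (φ : Y ⟶ X) [Flat φ] : BlowUp.IsEffCartierIdeal (I.comap φ) := by
  have := dominant_cmpl hI
  have := quasiCompact_interior hI
  have := dominant_preimage φ (cmpl I)
  exact comap_of_dominant hI φ

theorem isBlowUp_flat_baseChange {X' : Scheme.{u}} (g : Y ⟶ X) [Flat g] {I : X.IdealSheafData}
    {b : X' ⟶ X} (hb : BlowUp.IsBlowUp b I) : BlowUp.IsBlowUp (pullback.fst g b) (I.comap g) := by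
  refine ⟨?_, fun W k hk => ?_⟩
  · rw [← Scheme.IdealSheafData.comap_comp, pullback.condition, Scheme.IdealSheafData.comap_comp]
    have : Flat (pullback.snd g b) := MorphismProperty.pullback_snd _ _ ‹Flat g›
    exact isEffCartierIdeal_comap_flat hb.1 _
  · rw [← Scheme.IdealSheafData.comap_comp] at hk
    obtain ⟨h, hh, hu⟩ := hb.2 W (k ≫ g) hk
    refine ⟨pullback.lift k h hh.symm, pullback.lift_fst _ _ _, fun l hl => ?_⟩
    apply pullback.hom_ext
    · rw [pullback.lift_fst]; exact hl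
    · rw [pullback.lift_snd]
      exact hu _ (by show (l ≫ pullback.snd g b) ≫ b = k ≫ g; rw [Category.assoc, ← pullback.condition, ← Category.assoc, hl])

theorem isReduced_of_isBlowUp [IsReduced X] {I : X.IdealSheafData} {b : Y ⟶ X}
    (hb : BlowUp.IsBlowUp b I) : IsReduced Y := by
  have := isIso_blowUp_restrict hb
  have := dominant_cmpl hb.1
  have := quasiCompact_interior hb.1
  have hred : IsReduced ((b ⁻¹ᵁ cmpl I : Y.Opens) : Scheme.{u}) :=
    isReduced_of_isOpenImmersion ((b ∣_ cmpl I) ≫ (cmpl I).ι)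
  rw [preimage_cmpl_eq] at hred
  exact IsSchemeTheoreticallyDominant.isReduced (cmpl (I.comap b)).ι

theorem bijOn_maximalPoints {I : X.IdealSheafData} {b : Y ⟶ X} (hb : BlowUp.IsBlowUp b I) :
    Set.BijOn (fun y => b y) {y : Y | ∀ z : Y, z ⤳ y → z = y}
      {x : X | (∀ z : X, z ⤳ x → z = x) ∧ x ∉ I.support} := by
  have := isIso_blowUp_restrict hb
  let O : Y.Opens := b ⁻¹ᵁ cmpl I
  let e := (b ∣_ cmpl I).homeomorph
  have he : ∀ p : (O : Scheme.{u}), ((e p).1 : X) = b p.1 := fun p =>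
    morphismRestrict_base_coe b (cmpl I) p
  have hmem : ∀ y : Y, (∀ z : Y, z ⤳ y → z = y) → y ∈ O := fun y hy => by
    obtain ⟨z, hz, hzy⟩ := exists_specializes_cmpl hb.1 y
    rw [hy z hzy] at hz
    rw [← preimage_cmpl_eq] at hz
    exact hz
  refine ⟨fun y hy => ⟨fun z hz => ?_, hmem y hy⟩, fun y₁ hy₁ y₂ hy₂ h => ?_, ?_⟩
  · have hzc : z ∈ cmpl I := hz.mem_open (cmpl I).2 (hmem y hy)
    have h1 : (⟨z, hzc⟩ : ↥((cmpl I : X.Opens) : Scheme.{u})) ⤳ e ⟨y, hmem y hy⟩ := by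
      apply (cmpl I).ι.isOpenEmbedding.isInducing.specializes_iff.mp
      show z ⤳ ((e ⟨y, hmem y hy⟩).1 : X)
      rw [he]; exact hz
    have h2 := (h1.map e.symm.continuous).map O.ι.continuous
    rw [e.symm_apply_apply] at h2
    have h3 := hy _ h2
    have h4 := congrArg (fun t => b t) h3
    show z = b y
    rw [← h4]
    show z = b (O.ι (e.symm ⟨z, hzc⟩))
    exact ((congrArg Subtype.val (e.apply_symm_apply ⟨z, hzc⟩)).symm.trans (he _))
  · have : e ⟨y₁, hmem y₁ hy₁⟩ = e ⟨y₂, hmem y₂ hy₂⟩ :=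
      Subtype.ext ((he _).trans ((show b y₁ = b y₂ from h).trans (he ⟨y₂, hmem y₂ hy₂⟩).symm))
    exact congrArg Subtype.val (e.injective this)
  · rintro x ⟨hx, hxI⟩
    refine ⟨(e.symm ⟨x, hxI⟩).1, fun z hz => ?_, ?_⟩
    · have hzO : z ∈ O := hz.mem_open O.2 (e.symm ⟨x, hxI⟩).2
      have h1 : b z = x := hx _ (by
        have h := hz.map b.continuous
        rw [← he (e.symm ⟨x, hxI⟩), e.apply_symm_apply] at h
        exact h)
      have : e ⟨z, hzO⟩ = ⟨x, hxI⟩ := Subtype.ext ((he _).trans h1)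
      rw [← this, e.symm_apply_apply]
    · exact ((he _).symm.trans (congrArg Subtype.val (e.apply_symm_apply ⟨x, hxI⟩)))

end BlowUp26
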